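import Mathlib
import Cfsg.Agent.Lib.Helper55.OOG.Defs

/-!
# OOG (S2413): packages [ORB] and [COXB].
-/

set_option autoImplicit false
open scoped Matrix

namespace Cfsg.Agent.Lib.Helper11.OOG

open Cfsg.Agent.Lib.Helper55.OOG

universe u

theorem cox_pow_T0 {n : ℕ} {F : Type u} [Field F] (b : ↥(Iso (n + 1) F)) (δ : F)
    (hδ : mat b *ᵥ (T0 : Vec (n + 1) F) = δ • T0) (k : ℕ) :
    mat (b ^ k) *ᵥ (T0 : Vec (n + 1) F) = δ ^ k • T0 := by
  induction k with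
  | zero => rw [pow_zero, one_act, pow_zero, one_smul]
  | succ k ih =>
    rw [pow_succ', mul_act, ih, Matrix.mulVec_smul, hδ, smul_smul, pow_succ]

theorem cox_pow_E {n : ℕ} {F : Type u} [Field F] (b : ↥(Iso (n + 1) F))
    (hb : ∀ i : Fin n, mat b *ᵥ (E i.castSucc : Vec (n + 1) F) = E i.succ)
    (i : Fin (n + 1)) : mat (b ^ i.val) *ᵥ (E 0 : Vec (n + 1) F) = E i := by
  induction i using Fin.induction with
  | zero => rw [Fin.val_zero, pow_zero, one_act]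
  | succ i ih =>
    rw [Fin.val_succ, pow_succ', mul_act]
    rw [Fin.val_castSucc] at ih
    rw [ih]
    exact hb i

theorem cox_pow_Fv {n : ℕ} {F : Type u} [Field F] (b : ↥(Iso (n + 1) F))
    (hb : ∀ i : Fin n, mat b *ᵥ (Fv i.castSucc : Vec (n + 1) F) = Fv i.succ)
    (i : Fin (n + 1)) : mat (b ^ i.val) *ᵥ (Fv 0 : Vec (n + 1) F) = Fv i := by
  induction i using Fin.induction with
  | zero => rw [Fin.val_zero, pow_zero, one_act]
  | succ i ih =>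
    rw [Fin.val_succ, pow_succ', mul_act]
    rw [Fin.val_castSucc] at ih
    rw [ih]
    exact hb i

/-- [ORB] the orbit of `e₀` under a Coxeter element. -/
theorem pkgOrb : PkgOrb.{u} := by
  intro n F _ b hb i
  obtain ⟨h1, ⟨ε, hε, hlast⟩, -, ⟨δ, hδ, hT⟩⟩ := hb
  have hE := cox_pow_E b (fun i => (h1 i).1)
  have hF := cox_pow_Fv b (fun i => (h1 i).2)
  have hT' := cox_pow_T0 b δ hT
  refine ⟨⟨b ^ i.val, Subgroup.npow_mem_zpowers b _, 1, δ ^ i.val, one_ne_zero,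
    pow_ne_zero _ hδ, ?_, hT' _⟩, ⟨b ^ (i.val + (n + 1)), Subgroup.npow_mem_zpowers b _, ε,
    δ ^ (i.val + (n + 1)), hε, pow_ne_zero _ hδ, ?_, hT' _⟩⟩
  · rw [hE i, one_smul]
  · rw [pow_add, mul_act, pow_succ', mul_act]
    have h2 := hE (Fin.last n)
    rw [Fin.val_last] at h2
    rw [h2, hlast, Matrix.mulVec_smul, hF i]

/-- [COXB] Weyl element times shift is a Coxeter element. -/
theorem pkgCoxB : PkgCoxB.{u} := by
  intro n F _ n₀ c hw hc
  obtain ⟨hw1, hw2, hw3, hw4⟩ := hw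
  obtain ⟨hc1, ⟨ε, hε, hc2, hc3⟩, hc4⟩ := hc
  refine ⟨?_, ⟨-ε, neg_ne_zero.2 hε, ?_⟩, ⟨-ε⁻¹, neg_ne_zero.2 (inv_ne_zero hε), ?_⟩,
    ⟨-1, neg_ne_zero.2 one_ne_zero, ?_⟩⟩
  · intro i
    have hne : i.succ ≠ 0 := Fin.succ_ne_zero i
    constructor
    · rw [mul_act, (hc1 i).1]
      exact (hw4 _ hne).1
    · rw [mul_act, (hc1 i).2]
      exact (hw4 _ hne).2
  · rw [mul_act, hc2, Matrix.mulVec_smul, hw1, smul_neg, neg_smul]
  · rw [mul_act, hc3, Matrix.mulVec_smul, hw2, smul_neg, neg_smul]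
  · rw [mul_act, hc4, hw3, neg_smul, one_smul]

end Cfsg.Agent.Lib.Helper11.OOG
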