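import Mathlib
import Cfsg.Agent.Lib.Helper55.OOG.Defs

/-!
# OOG (S2413): package [RED1] — a non-zero singular vector is moved to one with `x_{i₀} ≠ 0`.
-/

set_option autoImplicit false
open scoped Matrix

namespace Cfsg.Agent.Lib.Helper11.OOG

open Cfsg.Agent.Lib.Helper55.OOG

universe u

/-- [RED1] -/
theorem pkgRed1_of (hExist : PkgExist.{u}) : PkgRed1.{u} := by
  intro m F _ h2 K hS hL i₀ p hp hQ
  classical
  by_cases hx : p (Sum.inr (Sum.inl i₀)) = 0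
  swap
  · exact ⟨1, K.one_mem, by rw [one_act]; exact hx⟩
  by_cases hy : p (Sum.inr (Sum.inr i₀)) = 0
  swap
  · -- `ρ_{e_{i₀}, c•t}`, `c = 1` or `-1`
    have key : ∀ c : F, ∃ σ ∈ K, (mat σ *ᵥ p) (Sum.inr (Sum.inl i₀)) =
        -(2 * c * p (Sum.inl ()) + c * c * p (Sum.inr (Sum.inr i₀))) := by
      intro c
      obtain ⟨σ, hσ⟩ := hExist m F (E i₀) (c • T0) (Q_E i₀)
        (by rw [B_smul_right, B_E_T0, mul_zero])
      refine ⟨σ, (hS i₀ c σ).1 hσ, ?_⟩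
      rw [hσ p, B_E, B_smul_right, B_T0, Q_smul, Q_T0]
      simp only [Pi.add_apply, Pi.sub_apply, Pi.smul_apply, smul_eq_mul, Pi.single_apply, hx]
      simp
      ring
    by_contra hcon
    have hcon' : ∀ g ∈ K, (mat g *ᵥ p) (Sum.inr (Sum.inl i₀)) = 0 := by
      intro g hg
      by_contra hne
      exact hcon ⟨g, hg, hne⟩
    obtain ⟨σ1, hσ1K, h1⟩ := key 1
    obtain ⟨σ2, hσ2K, h2'⟩ := key (-1)
    rw [hcon' σ1 hσ1K] at h1
    rw [hcon' σ2 hσ2K] at h2'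
    have h3 : 2 * p (Sum.inr (Sum.inr i₀)) = 0 := by linear_combination h1 + h2'
    rcases mul_eq_zero.1 h3 with h | h
    · exact h2 h
    · exact hy h
  -- `x_{i₀} = y_{i₀} = 0`
  have hex : ∃ a : Fin m, a ≠ i₀ ∧
      (p (Sum.inr (Sum.inl a)) ≠ 0 ∨ p (Sum.inr (Sum.inr a)) ≠ 0) := by
    by_contra hno
    have hall : ∀ a : Fin m, p (Sum.inr (Sum.inl a)) = 0 ∧ p (Sum.inr (Sum.inr a)) = 0 := by
      intro a
      by_cases ha : a = i₀
      · subst ha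
        exact ⟨hx, hy⟩
      · constructor
        · by_contra hne
          exact hno ⟨a, ha, Or.inl hne⟩
        · by_contra hne
          exact hno ⟨a, ha, Or.inr hne⟩
    have hτ : p (Sum.inl ()) = 0 := by
      have hQ' := hQ
      unfold QF Cfsg.quadFormOdd at hQ'
      rw [Finset.sum_eq_zero (fun a _ => by rw [(hall a).1, zero_mul]), add_zero] at hQ'
      exact pow_eq_zero_iff (two_ne_zero) |>.1 hQ'
    apply hp
    funext k
    rcases k with ⟨⟩ | k | k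
    · exact hτ
    · exact (hall k).1
    · exact (hall k).2
  obtain ⟨a, ha, hxa | hya⟩ := hex
  · -- `ρ_{f_a, 1•e_{i₀}}`
    obtain ⟨σ, hσ⟩ := hExist m F (Fv a) ((1 : F) • E i₀) (Q_Fv a)
      (by rw [B_smul_right, B_Fv_E, if_neg ha, mul_zero])
    refine ⟨σ, (hL i₀ a (Ne.symm ha) 1 σ).2.2.1 hσ, ?_⟩
    rw [hσ p, B_Fv, B_smul_right, B_E, Q_smul, Q_E]
    simp only [Pi.add_apply, Pi.sub_apply, Pi.smul_apply, smul_eq_mul, Pi.single_apply, hx, hy]
    simpa using hxa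
  · -- `ρ_{e_a, 1•e_{i₀}}`
    obtain ⟨σ, hσ⟩ := hExist m F (E a) ((1 : F) • E i₀) (Q_E a)
      (by rw [B_smul_right, B_E_E, mul_zero])
    refine ⟨σ, (hL i₀ a (Ne.symm ha) 1 σ).1 hσ, ?_⟩
    rw [hσ p, B_E, B_smul_right, B_E, Q_smul, Q_E]
    simp only [Pi.add_apply, Pi.sub_apply, Pi.smul_apply, smul_eq_mul, Pi.single_apply, hx, hy]
    simpa [ha, Ne.symm ha] using hya

end Cfsg.Agent.Lib.Helper11.OOG
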